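import Cfsg.Agent.Lib.Spor.TC.Signed

/-!
An excluded extension of the centralizer, case 2 0 1: tables found by a computer search.
-/

set_option autoImplicit false
set_option maxRecDepth 100000

namespace CfsgLib.Spor.HSType.Cert.H201

open CfsgLib.Spor.TC

def edgeTbl : Tbl :=
  (.bin (.bin (.tip 0x140000d200008000142000120000080001300003900012000130000000001280000e000006000110000c7000100001130000f0001000000e0000f20000e0000e4000000000e60000c0000d30000c0000720000b0000c10000a0000b3000090000a30000800009000004000082000070000120000600007100005000063000040000500000100004200001000015000030000000000200003000000000004000000000020000100002000000000010) (.tip 0x10000100000a0001500012a0001300012a0001d0001d40002e0001da0002e0002e40000e0002e80001d0002a20002b0001da0002c0000ea0002d0000fa0001a00010a0001b00011a0001c0000ca0001f0001ca0001e0000da0002400014a0002d0001a00002c0002d20002b0002c80002a0002b3000290002a000028000292)) (.bin (.tip 0x27000288000260002730002500026000023000252000210001b4000240001e2000240001c4000070002440002300007900022000230000060002280002100007700020000210000060002060001f0001450001e0001f20001e000084000040001e40001d0000e8000130001d60001c0000740001b0001c70001a0001b3000190001a90001800019200017000186000160001750001500016300015000018000150001200000100015800004000085)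 .none))

def nodeTbl : Tbl :=
  (.bin (.tip 0x1e20000440001360001b70001a30001990001820001760001650001530000180000820001200000080001030000f00000e20000060000c30000b10000a3000093000080000042000061000053000040000012000020000010000000000000) (.tip 0xe80002c20002b80002a3000290000282000278000263000250000232000074000220000068000200000066))

def rowTbl : Tbl :=
  .none

/-- The relators. -/
def rels : List (List ℕ) := [
  [0, 0, 0, 0],
  [2, 2, 2, 2, 2, 2, 2],
  [4, 4, 4],
  [4, 2, 5, 3, 3],
  [4, 0, 5, 1],
  [0, 2, 0, 3, 1, 2, 1, 3],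
  [0, 2, 2, 0, 3, 3, 1, 2, 2, 1, 3, 3],
  [2, 0, 3, 2, 2, 0, 3, 3, 2, 1, 3, 2, 2, 1, 3, 3],
  [2, 2, 2, 0, 3, 3, 3, 2, 2, 1, 3, 3, 2, 2, 1, 3, 3, 2, 1, 3, 2, 1, 3, 2, 1, 3, 1],
  [6, 4, 7, 4],
  [6, 0, 7, 0],
  [6, 2, 0, 3, 7, 2, 2, 1, 3, 3],
  [6, 6],
  [2, 6, 2, 6, 2, 6],
  [8, 4, 9, 5],
  [8, 0, 9, 0],
  [8, 8],
  [8, 6, 8, 6, 1],
  [8, 2, 0, 0, 3, 9, 4, 3, 7, 4, 2, 5, 3, 7, 4, 2, 2, 1, 3, 2, 1, 3, 1, 1],
  [8, 3, 5, 6, 2, 9, 3, 7, 4, 2],
  [8, 2, 0, 3, 8, 2, 0, 3, 8, 2, 0, 3, 5, 7]]

/-- The generators of the subgroup. -/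
def subs : List (List ℕ) := [[2], [4]]

/-- The certificate. -/
noncomputable def cert : Cert :=
  ⟨10, rels, subs, edgeTbl.get 44, nodeTbl.get 24, rowTbl.get 20⟩

/-- The word traced into the subgroup. -/
def target : List ℕ := [0, 0]

end CfsgLib.Spor.HSType.Cert.H201
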